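import Mathlib.RingTheory.DedekindDomain.Ideal.Basic
import Mathlib.RingTheory.Ideal.Maps
import Mathlib.Algebra.BigOperators.Pi

set_option autoImplicit false

namespace K983.FrobPi

universe u v

variable {J : Type u} [Fintype J] [DecidableEq J] {D : J → Type v} [∀ j, CommRing (D j)]

/-- the component of an ideal of a product of rings -/
def comp (I : Ideal (∀ j, D j)) (j : J) : Ideal (D j) where
  carrier := {y | Pi.single j y ∈ I}
  add_mem' := by
    intro a b ha hb
    simp only [Set.mem_ofPred_eq] at *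
    rw [Pi.single_add]
    exact I.add_mem ha hb
  zero_mem' := by
    simp only [Set.mem_ofPred_eq, Pi.single_zero]
    exact I.zero_mem
  smul_mem' := by
    intro c y hy
    simp only [Set.mem_ofPred_eq, smul_eq_mul] at *
    have : (Pi.single j (c * y) : ∀ j, D j) = Pi.single j c * Pi.single j y := by
      rw [Pi.single_mul]
    rw [this]
    exact I.mul_mem_left _ hy

omit [Fintype J] in
theorem mem_comp (I : Ideal (∀ j, D j)) (j : J) (y : D j) :
    y ∈ comp I j ↔ (Pi.single j y : ∀ j, D j) ∈ I := Iff.rfl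

omit [Fintype J] in
theorem apply_mem_comp (I : Ideal (∀ j, D j)) (j : J) {x : ∀ j, D j} (hx : x ∈ I) :
    x j ∈ comp I j := by
  rw [mem_comp]
  have : (Pi.single j (x j) : ∀ j, D j) = Pi.single j 1 * x := by
    funext i
    by_cases h : i = j
    · subst h; simp
    · simp [Pi.single_eq_of_ne h]
  rw [this]
  exact I.mul_mem_left _ hx

theorem mem_of_comp (I : Ideal (∀ j, D j)) {x : ∀ j, D j} (hx : ∀ j, x j ∈ comp I j) :
    x ∈ I := by
  rw [← Finset.univ_sum_single x]
  exact I.sum_mem fun j _ => hx j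

theorem frob_pi [∀ j, IsDedekindDomain (D j)] (n : ℕ) (hn : ∀ j, (n : D j) ≠ 0)
    (I I' : Ideal (∀ j, D j)) (hnI : (n : ∀ j, D j) ∈ I')
    (h : ∀ r : ∀ j, D j, (∀ x ∈ I', r * x ∈ Ideal.span {(n : ∀ j, D j)}) →
      ∀ x ∈ I, r * x ∈ Ideal.span {(n : ∀ j, D j)}) : I ≤ I' := by
  intro x hx
  refine mem_of_comp I' fun j => ?_
  have hnj : (n : D j) ∈ comp I' j := by simpa using apply_mem_comp I' j hnI
  have hle : Ideal.span {(n : D j)} ≤ comp I' j := by
    rw [Ideal.span_singleton_le_iff_mem]; exact hnj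
  obtain ⟨K, hK⟩ := Ideal.dvd_iff_le.mpr hle
  have hK0 : K ≠ 0 := by
    rintro rfl
    rw [mul_zero, Ideal.zero_eq_bot, Ideal.span_singleton_eq_bot] at hK
    exact hn j hK
  have key : Ideal.span {x j} * K ≤ comp I' j * K := by
    rw [Ideal.span_singleton_mul_le_iff]
    intro s hs
    have h1 : ∀ y ∈ I', Pi.single j s * y ∈ Ideal.span {(n : ∀ j, D j)} := by
      intro y hy
      have h2 : y j * s ∈ comp I' j * K := Ideal.mul_mem_mul (apply_mem_comp I' j hy) hs
      rw [← hK, Ideal.mem_span_singleton'] at h2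
      obtain ⟨t, ht⟩ := h2
      rw [Ideal.mem_span_singleton']
      refine ⟨Pi.single j t, ?_⟩
      funext i
      by_cases hi : i = j
      · subst hi
        simp only [Pi.mul_apply, Pi.single_eq_same, Pi.natCast_apply]
        rw [ht, mul_comm]
      · simp [Pi.single_eq_of_ne hi]
    have h3 := h (Pi.single j s) h1 x hx
    rw [Ideal.mem_span_singleton'] at h3
    obtain ⟨t, ht⟩ := h3
    have h4 := congrFun ht j
    simp only [Pi.mul_apply, Pi.single_eq_same, Pi.natCast_apply] at h4
    rw [← hK, Ideal.mem_span_singleton']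
    exact ⟨t j, by rw [h4, mul_comm]⟩
  have h5 : comp I' j * K ∣ Ideal.span {x j} * K := Ideal.dvd_iff_le.mpr key
  have h6 := (mul_dvd_mul_iff_right hK0).mp h5
  exact (Ideal.span_singleton_le_iff_mem _).mp (Ideal.dvd_iff_le.mp h6)

end K983.FrobPi
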